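import Mathlib

/-!
# Colimits of sets over disjoint unions of filtered categories
-/

set_option autoImplicit false

universe v

open CategoryTheory CategoryTheory.Limits

namespace Groth.Agent.PseudoFilteredLib

variable {I : Type v} [SmallCategory I]
  (h1 : ∀ ⦃w x y : I⦄ (a : w ⟶ x) (b : w ⟶ y), ∃ (z : I) (c : x ⟶ z) (d : y ⟶ z), a ≫ c = b ≫ d)
  (h2 : ∀ ⦃x y : I⦄ (a b : x ⟶ y), ∃ (z : I) (c : y ⟶ z), a ≫ c = b ≫ c)

/-- Two objects with a common successor. -/
def Rel (i i' : I) : Prop := ∃ k, Nonempty (i ⟶ k) ∧ Nonempty (i' ⟶ k)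

lemma Rel.refl (i : I) : Rel i i := ⟨i, ⟨𝟙 i⟩, ⟨𝟙 i⟩⟩

lemma Rel.symm {i i' : I} (h : Rel i i') : Rel i' i := h.imp fun _ h => ⟨h.2, h.1⟩

include h1 in
lemma Rel.trans {i i' i'' : I} (h : Rel i i') (h' : Rel i' i'') : Rel i i'' := by
  obtain ⟨k, ⟨a⟩, ⟨b⟩⟩ := h
  obtain ⟨k', ⟨a'⟩, ⟨b'⟩⟩ := h'
  obtain ⟨z, c, d, -⟩ := h1 b a'
  exact ⟨z, ⟨a ≫ c⟩, ⟨b' ≫ d⟩⟩

include h1 in
lemma colimit_eq_iff (F : I ⥤ Type v) {i i' : I} (x : F.obj i) (x' : F.obj i') :
    colimit.ι F i x = colimit.ι F i' x' ↔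
      ∃ (k : I) (a : i ⟶ k) (b : i' ⟶ k), F.map a x = F.map b x' := by
  constructor
  · intro h
    have h' := Types.colimit_eq h
    have key : ∀ p q : Σ j, F.obj j, Relation.EqvGen (Functor.ColimitTypeRel F) p q →
        ∃ (k : I) (a : p.1 ⟶ k) (b : q.1 ⟶ k), F.map a p.2 = F.map b q.2 := by
      intro p q hpq
      induction hpq with
      | rel p q h =>
        obtain ⟨g, hg⟩ := h
        exact ⟨q.1, g, 𝟙 _, by rw [F.map_id]; exact hg.symm⟩
      | refl p => exact ⟨p.1, 𝟙 _, 𝟙 _, rfl⟩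
      | symm p q _ ih =>
        obtain ⟨k, a, b, e⟩ := ih
        exact ⟨k, b, a, e.symm⟩
      | trans p q r _ _ ih ih' =>
        obtain ⟨k, a, b, e⟩ := ih
        obtain ⟨k', a', b', e'⟩ := ih'
        obtain ⟨z, c, d, hcd⟩ := h1 b a'
        exact ⟨z, a ≫ c, b' ≫ d, by
          rw [FunctorToTypes.map_comp_apply, e, ← FunctorToTypes.map_comp_apply, hcd,
            FunctorToTypes.map_comp_apply, e', ← FunctorToTypes.map_comp_apply]⟩
    exact key ⟨i, x⟩ ⟨i', x'⟩ h'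
  · rintro ⟨k, a, b, e⟩
    rw [← colimit.w F a, ← colimit.w F b]
    exact congrArg (colimit.ι F k) e

include h1 in
lemma exists_common {α : Type} (s : Finset α) {k : I} {β : α → I} (w : ∀ a, k ⟶ β a) :
    ∃ (z : I) (e : k ⟶ z), ∀ a ∈ s, ∃ f : β a ⟶ z, w a ≫ f = e := by
  classical
  induction s using Finset.induction_on with
  | empty => exact ⟨k, 𝟙 k, by simp⟩
  | insert a s _ ih =>
    obtain ⟨z, e, he⟩ := ih
    obtain ⟨z', c, d, hcd⟩ := h1 e (w a)
    refine ⟨z', e ≫ c, fun a' ha' => ?_⟩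
    rcases Finset.mem_insert.1 ha' with rfl | ha'
    · exact ⟨d, hcd.symm⟩
    · obtain ⟨f, hf⟩ := he a' ha'
      exact ⟨f ≫ c, by rw [← Category.assoc, hf]⟩

include h1 h2 in
lemma exists_equalizer (F : I ⥤ Type v) {k : I} (y y' : F.obj k)
    (h : colimit.ι F k y = colimit.ι F k y') : ∃ (z : I) (w : k ⟶ z), F.map w y = F.map w y' := by
  obtain ⟨z, a, b, e⟩ := (colimit_eq_iff h1 F y y').1 h
  obtain ⟨z', c, hc⟩ := h2 a b
  exact ⟨z', a ≫ c, by
    rw [FunctorToTypes.map_comp_apply, e, ← FunctorToTypes.map_comp_apply, ← hc]⟩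

include h1 h2 in
theorem preservesLimitsOfShape (J : Type) [SmallCategory J] [FinCategory J] [IsConnected J] :
    PreservesLimitsOfShape J (colim : (I ⥤ Type v) ⥤ Type v) := by
  classical
  obtain ⟨j₀⟩ := (inferInstance : Nonempty J)
  refine ⟨fun {F} => ⟨fun {c} hc => ?_⟩⟩
  have hev : ∀ i, IsLimit (((evaluation I (Type v)).obj i).mapCone c) := fun i =>
    isLimitOfPreserves _ hc
  have hπ : ∀ (i : I) (j : J) (p : c.pt.obj i),
      colimMap (c.π.app j) (colimit.ι c.pt i p) = colimit.ι (F.obj j) i ((c.π.app j).app i p) :=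
    fun i j p => ConcreteCategory.congr_hom (ι_colimMap (c.π.app j) i) p
  refine (Types.isLimit_iff ((colim : (I ⥤ Type v) ⥤ Type v).mapCone c)).2 fun s hs => ?_
  change ∀ j, colimit (F.obj j) at s
  have hs' : ∀ {j j' : J} (g : j ⟶ j'), colimMap (F.map g) (s j) = s j' := fun g => hs g
  have hnat : ∀ (j : J) {i i' : I} (a : i ⟶ i') (p : c.pt.obj i),
      (c.π.app j).app i' (c.pt.map a p) = (F.obj j).map a ((c.π.app j).app i p) :=
    fun j i i' a p => NatTrans.naturality_apply (c.π.app j) a p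
  choose i x hx using fun j => Types.jointly_surjective' (s j)
  have hmap : ∀ {j j' : J} (g : j ⟶ j') (k : I) (p : (F.obj j).obj k),
      colimMap (F.map g) (colimit.ι (F.obj j) k p) = colimit.ι (F.obj j') k ((F.map g).app k p) :=
    fun g k p => ConcreteCategory.congr_hom (ι_colimMap (F.map g) k) p
  have hrel : ∀ j, Rel (i j₀) (i j) := by
    intro j
    have hz := isPreconnected_zigzag j₀ j
    induction hz with
    | refl => exact Rel.refl _
    | @tail a b _ hab ih =>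
      refine ih.trans h1 ?_
      rcases hab with ⟨⟨g⟩⟩ | ⟨⟨g⟩⟩
      · have := hs' g
        rw [← hx a, ← hx b, hmap] at this
        obtain ⟨k, u, u', -⟩ := (colimit_eq_iff h1 _ _ _).1 this
        exact ⟨k, ⟨u⟩, ⟨u'⟩⟩
      · have := hs' g
        rw [← hx a, ← hx b, hmap] at this
        obtain ⟨k, u, u', -⟩ := (colimit_eq_iff h1 _ _ _).1 this
        exact ⟨k, ⟨u'⟩, ⟨u⟩⟩
  -- a common stage
  obtain ⟨k, hk⟩ : ∃ k, ∀ j, Nonempty (i j ⟶ k) := by
    suffices ∀ t : Finset J, ∃ k, Nonempty (i j₀ ⟶ k) ∧ ∀ j ∈ t, Nonempty (i j ⟶ k) from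
      (this Finset.univ).imp fun k hk j => hk.2 j (Finset.mem_univ j)
    intro t
    induction t using Finset.induction_on with
    | empty => exact ⟨i j₀, ⟨𝟙 _⟩, by simp⟩
    | insert a t _ ih =>
      obtain ⟨k, ⟨u⟩, hk⟩ := ih
      obtain ⟨z, ⟨c'⟩, ⟨d⟩⟩ := (show Rel k (i a) from Rel.trans h1 ⟨k, ⟨𝟙 k⟩, ⟨u⟩⟩ (hrel a))
      refine ⟨z, ⟨u ≫ c'⟩, fun j hj => ?_⟩
      rcases Finset.mem_insert.1 hj with rfl | hj
      · exact ⟨d⟩
      · exact (hk j hj).map (· ≫ c')
  let u := fun j => (hk j).some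
  let y : ∀ j, (F.obj j).obj k := fun j => (F.obj j).map (u j) (x j)
  have hy : ∀ j, colimit.ι (F.obj j) k (y j) = s j := fun j => by
    rw [← hx j]
    exact ConcreteCategory.congr_hom (colimit.w (F.obj j) (u j)) (x j)
  have heq : ∀ g : (Σ j j' : J, j ⟶ j'), ∃ (z : I) (w : k ⟶ z),
      (F.obj g.2.1).map w ((F.map g.2.2).app k (y g.1)) = (F.obj g.2.1).map w (y g.2.1) := fun g =>
    exists_equalizer h1 h2 _ _ _ (by rw [← hmap, hy, hy, hs'])
  choose β w hw using heq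
  obtain ⟨z, e, he⟩ := exists_common h1 Finset.univ w
  have hcompat : ∀ {j j' : J} (g : j ⟶ j'),
      (F.map g).app z ((F.obj j).map e (y j)) = (F.obj j').map e (y j') := by
    intro j j' g
    obtain ⟨f, hf⟩ := he ⟨j, j', g⟩ (Finset.mem_univ _)
    rw [NatTrans.naturality_apply (F.map g) e, ← hf, FunctorToTypes.map_comp_apply,
      FunctorToTypes.map_comp_apply, hw ⟨j, j', g⟩]
  obtain ⟨p, hp, -⟩ := (Types.isLimit_iff _).1 ⟨hev z⟩ (fun j => (F.obj j).map e (y j))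
    (fun g => hcompat g)
  refine ⟨colimit.ι c.pt z p, fun j => ?_, fun q hq => ?_⟩
  · show colimMap (c.π.app j) (colimit.ι c.pt z p) = s j
    rw [hπ, ← hy j]
    refine Eq.trans (congrArg _ (hp j)) ?_
    exact ConcreteCategory.congr_hom (colimit.w (F.obj j) e) (y j)
  · obtain ⟨m, q, rfl⟩ := Types.jointly_surjective' q
    have hq' : ∀ j, colimit.ι (F.obj j) m ((c.π.app j).app m q) =
        colimit.ι (F.obj j) z ((c.π.app j).app z p) := fun j => by
      rw [← hπ]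
      refine (hq j).trans ?_
      rw [← hy j, show (c.π.app j).app z p = (F.obj j).map e (y j) from hp j]
      exact (ConcreteCategory.congr_hom (colimit.w (F.obj j) e) (y j)).symm
    obtain ⟨z₁, a, b, -⟩ := (colimit_eq_iff h1 _ _ _).1 (hq' j₀)
    have hq'' : ∀ j, ∃ (z₂ : I) (w : z₁ ⟶ z₂), (F.obj j).map w ((c.π.app j).app z₁ (c.pt.map a q)) =
        (F.obj j).map w ((c.π.app j).app z₁ (c.pt.map b p)) := fun j => by
      refine exists_equalizer h1 h2 _ _ _ ?_
      rw [hnat j a, hnat j b]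
      refine Eq.trans ?_ ((hq' j).trans ?_)
      · exact ConcreteCategory.congr_hom (colimit.w (F.obj j) a) _
      · exact (ConcreteCategory.congr_hom (colimit.w (F.obj j) b) _).symm
    choose β' w' hw' using hq''
    obtain ⟨z₂, e', he'⟩ := exists_common h1 Finset.univ w'
    have hfin : c.pt.map e' (c.pt.map a q) = c.pt.map e' (c.pt.map b p) := by
      obtain ⟨r, -, hr⟩ := (Types.isLimit_iff _).1 ⟨hev z₂⟩
        (fun j => (c.π.app j).app z₂ (c.pt.map e' (c.pt.map a q))) (fun {j j'} g => by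
          have := congrArg (fun t => (t.app z₂) (c.pt.map e' (c.pt.map a q))) (c.w g)
          exact this)
      refine (hr _ fun j => rfl).trans (hr _ fun j => ?_).symm
      show (c.π.app j).app z₂ (c.pt.map e' (c.pt.map b p)) = (c.π.app j).app z₂ (c.pt.map e' (c.pt.map a q))
      obtain ⟨f, hf⟩ := he' j (Finset.mem_univ _)
      rw [hnat j e', hnat j e', ← hf,
        FunctorToTypes.map_comp_apply, FunctorToTypes.map_comp_apply, hw' j]
    refine ((colimit_eq_iff h1 c.pt q p).2 ⟨z₂, a ≫ e', b ≫ e', ?_⟩)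
    rw [FunctorToTypes.map_comp_apply, FunctorToTypes.map_comp_apply, hfin]

end Groth.Agent.PseudoFilteredLib
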